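import Mathlib.RingTheory.Flat.EquationalCriterion
import Mathlib.RingTheory.Flat.Stability
import Mathlib.RingTheory.LocalRing.ResidueField.Basic
import Mathlib.RingTheory.Filtration
import Mathlib.LinearAlgebra.TensorProduct.Quotient
import Mathlib.LinearAlgebra.TensorProduct.RightExactness
import Mathlib.RingTheory.Nakayama
import Mathlib.RingTheory.Ideal.Quotient.Operations
import Mathlib.Algebra.Module.Torsion.Basic
import Mathlib.LinearAlgebra.Basis.VectorSpace

/-!
The local criterion of flatness, proved without Tor.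

The central statement is `mem_pow_sup_smul_of_map_mem`: if `u : N → M` has flat target and
`u ⊗ R/m` is injective, then `u x ∈ J M` implies `x ∈ (m ^ n + J) N` for all `n`.
-/

universe u
open TensorProduct

namespace Groth.Agent.LocalCrit

variable {R : Type u} [CommRing R]
variable {N M F : Type u} [AddCommGroup N] [Module R N] [AddCommGroup M] [Module R M]
  [AddCommGroup F] [Module R F]

/-- multiplication `A ⊗ N → N` -/
noncomputable def mulMap (A : Ideal R) (N : Type u) [AddCommGroup N] [Module R N] :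
    A ⊗[R] N →ₗ[R] N :=
  (TensorProduct.lid R N).toLinearMap ∘ₗ (Submodule.subtype A).rTensor N

@[simp] theorem mulMap_tmul (A : Ideal R) (a : A) (n : N) : mulMap A N (a ⊗ₜ n) = (a : R) • n := by
  simp [mulMap]

theorem range_mulMap (A : Ideal R) : LinearMap.range (mulMap A N) = A • ⊤ := by
  apply le_antisymm
  · rintro _ ⟨z, rfl⟩
    induction z using TensorProduct.induction_on with
    | zero => simp
    | tmul a n => rw [mulMap_tmul]; exact Submodule.smul_mem_smul a.2 trivial
    | add x y hx hy => rw [map_add]; exact add_mem hx hy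
  · rw [Submodule.smul_le]
    intro a ha n _
    exact ⟨(⟨a, ha⟩ : A) ⊗ₜ n, by simp⟩

theorem exists_mulMap_eq {A : Ideal R} {x : N} (hx : x ∈ A • (⊤ : Submodule R N)) :
    ∃ z, mulMap A N z = x := by
  rwa [← range_mulMap] at hx

theorem mulMap_mem (A : Ideal R) (z : A ⊗[R] N) : mulMap A N z ∈ A • (⊤ : Submodule R N) := by
  rw [← range_mulMap]; exact LinearMap.mem_range_self _ z

theorem mulMap_injective (A : Ideal R) [Module.Flat R N] : Function.Injective (mulMap A N) := by
  have h := Module.Flat.rTensor_preserves_injective_linearMap (M := N) (Submodule.subtype A)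
    A.injective_subtype
  exact (TensorProduct.lid R N).injective.comp h

theorem mulMap_lTensor (A : Ideal R) (u : N →ₗ[R] M) (z : A ⊗[R] N) :
    mulMap A M (u.lTensor A z) = u (mulMap A N z) := by
  induction z using TensorProduct.induction_on with
  | zero => simp
  | tmul a n => simp
  | add x y hx hy => simp [hx, hy]

theorem mulMap_rTensor {A B : Ideal R} (h : B ≤ A) (z : B ⊗[R] N) :
    mulMap A N ((Submodule.inclusion h).rTensor N z) = mulMap B N z := by
  induction z using TensorProduct.induction_on with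
  | zero => simp
  | tmul a n => simp
  | add x y hx hy => simp [hx, hy]

theorem one_tmul_eq_zero_iff (J : Ideal R) (x : N) :
    (1 : R ⧸ J) ⊗ₜ[R] x = 0 ↔ x ∈ J • (⊤ : Submodule R N) := by
  rw [← (quotTensorEquivQuotSMul N J).map_eq_zero_iff, ← map_one (Ideal.Quotient.mk J),
    quotTensorEquivQuotSMul_mk_tmul, one_smul, Submodule.Quotient.mk_eq_zero]

theorem exists_one_tmul (J : Ideal R) (z : (R ⧸ J) ⊗[R] N) : ∃ x, z = (1 : R ⧸ J) ⊗ₜ[R] x := by
  induction z using TensorProduct.induction_on with
  | zero => exact ⟨0, (tmul_zero _ _).symm⟩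
  | tmul a n =>
    obtain ⟨a, rfl⟩ := Ideal.Quotient.mk_surjective a
    exact ⟨a • n, by rw [← TensorProduct.smul_tmul, ← map_one (Ideal.Quotient.mk J)]; simp [Algebra.smul_def]⟩
  | add x y hx hy =>
    obtain ⟨a, rfl⟩ := hx
    obtain ⟨b, rfl⟩ := hy
    exact ⟨a + b, (tmul_add _ _ _).symm⟩

theorem quot_lTensor_injective_iff (J : Ideal R) (u : N →ₗ[R] M) :
    Function.Injective (u.lTensor (R ⧸ J)) ↔
      ∀ x, u x ∈ J • (⊤ : Submodule R M) → x ∈ J • (⊤ : Submodule R N) := by
  constructor
  · intro h x hx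
    rw [← one_tmul_eq_zero_iff] at hx ⊢
    apply h
    rwa [map_zero, LinearMap.lTensor_tmul]
  · intro h
    rw [← LinearMap.ker_eq_bot, LinearMap.ker_eq_bot']
    intro z hz
    obtain ⟨x, rfl⟩ := exists_one_tmul J z
    rw [LinearMap.lTensor_tmul, one_tmul_eq_zero_iff] at hz
    exact (one_tmul_eq_zero_iff J x).2 (h x hz)

/-- one step of the filtration, for a general ideal `𝔞` -/
theorem mem_smul_of_map_mem' {𝔞 : Ideal R} (u : N →ₗ[R] M) [Module.Flat R M]
    (h : ∀ (V : Type u) [AddCommGroup V] [Module R V], (∀ a ∈ 𝔞, ∀ v : V, a • v = 0) →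
      Function.Injective (u.lTensor V))
    {A B : Ideal R} (hBA : B ≤ A) (hmA : 𝔞 * A ≤ B) {x : N} (hx : x ∈ A • (⊤ : Submodule R N))
    (hux : u x ∈ B • (⊤ : Submodule R M)) : x ∈ B • (⊤ : Submodule R N) := by
  obtain ⟨z, rfl⟩ := exists_mulMap_eq hx
  obtain ⟨w, hw⟩ := exists_mulMap_eq hux
  have hz : u.lTensor A z = (Submodule.inclusion hBA).rTensor M w := by
    apply mulMap_injective A
    rw [mulMap_lTensor, mulMap_rTensor, hw]
  let π := (LinearMap.range (Submodule.inclusion hBA)).mkQ
  have hV : ∀ a ∈ 𝔞, ∀ v : A ⧸ LinearMap.range (Submodule.inclusion hBA), a • v = 0 := by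
    intro a ha v
    obtain ⟨v, rfl⟩ := Submodule.mkQ_surjective _ v
    rw [← map_smul, Submodule.mkQ_apply, Submodule.Quotient.mk_eq_zero]
    exact ⟨⟨a * v, hmA (Ideal.mul_mem_mul ha v.2)⟩, rfl⟩
  have hπ : Function.Exact (Submodule.inclusion hBA) π :=
    LinearMap.exact_iff.2 (Submodule.ker_mkQ _)
  have h0 : π.rTensor M (u.lTensor A z) = 0 := by
    rw [hz, (rTensor_exact M hπ (Submodule.mkQ_surjective _)).apply_apply_eq_zero]
  have h1 : π.rTensor N z = 0 := by
    refine h _ hV ?_
    rw [map_zero, ← LinearMap.comp_apply, LinearMap.lTensor_comp_rTensor]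
    rw [← LinearMap.comp_apply, LinearMap.rTensor_comp_lTensor] at h0
    exact h0
  obtain ⟨z', rfl⟩ := ((rTensor_exact N hπ (Submodule.mkQ_surjective _)) z).1 h1
  rw [mulMap_rTensor]
  exact mulMap_mem B z'

theorem mem_pow_sup_smul_of_map_mem' {𝔞 : Ideal R} (u : N →ₗ[R] M) [Module.Flat R M]
    (h : ∀ (V : Type u) [AddCommGroup V] [Module R V], (∀ a ∈ 𝔞, ∀ v : V, a • v = 0) →
      Function.Injective (u.lTensor V))
    {J : Ideal R} {x : N} (hux : u x ∈ J • (⊤ : Submodule R M)) (n : ℕ) :
    x ∈ (𝔞 ^ n ⊔ J) • (⊤ : Submodule R N) := by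
  induction n with
  | zero => simp
  | succ n ih =>
    refine mem_smul_of_map_mem' u h (sup_le_sup_right (Ideal.pow_le_pow_right n.le_succ) J) ?_ ih
      (Submodule.smul_mono_left le_sup_right hux)
    rw [Ideal.mul_sup, ← pow_succ']
    exact sup_le_sup_left Ideal.mul_le_right _

/-- If `u ⊗ R/𝔞` is injective and all `R/𝔞`-modules are flat, then `u ⊗ V` is injective for every
module killed by `𝔞`. -/
theorem lTensor_injective_of_killed' {𝔞 : Ideal R}
    (hflat : ∀ (V : Type u) [AddCommGroup V] [Module (R ⧸ 𝔞) V], Module.Flat (R ⧸ 𝔞) V)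
    (u : N →ₗ[R] M) (h : Function.Injective (u.lTensor (R ⧸ 𝔞)))
    (V : Type u) [AddCommGroup V] [Module R V] (hV : ∀ a ∈ 𝔞, ∀ v : V, a • v = 0) :
    Function.Injective (u.lTensor V) := by
  have hT : Module.IsTorsionBySet R V (𝔞 : Set R) := fun v a => hV a a.2 v
  letI : Module (R ⧸ 𝔞) V := hT.module
  haveI : IsScalarTower R (R ⧸ 𝔞) V := hT.isScalarTower
  haveI := hflat V
  let eN := AlgebraTensorModule.cancelBaseChange R (R ⧸ 𝔞) (R ⧸ 𝔞) V N
  let eM := AlgebraTensorModule.cancelBaseChange R (R ⧸ 𝔞) (R ⧸ 𝔞) V M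
  have hk : Function.Injective ((u.baseChange (R ⧸ 𝔞)).lTensor V) :=
    Module.Flat.lTensor_preserves_injective_linearMap (u.baseChange (R ⧸ 𝔞)) h
  have hc : ∀ z, u.lTensor V (eN z) = eM ((u.baseChange (R ⧸ 𝔞)).lTensor V z) := by
    intro z
    induction z using TensorProduct.induction_on with
    | zero => simp
    | tmul v w =>
      induction w using TensorProduct.induction_on with
      | zero => simp
      | tmul c n => simp [eN, eM]
      | add x y hx hy => simp only [tmul_add, map_add, hx, hy]
    | add x y hx hy => simp only [map_add, hx, hy]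
  intro a b hab
  obtain ⟨a, rfl⟩ := eN.surjective a
  obtain ⟨b, rfl⟩ := eN.surjective b
  rw [hc, hc] at hab
  rw [hk (eM.injective hab)]

section Local

variable [IsLocalRing R]

local notation "𝔪" => IsLocalRing.maximalIdeal R

theorem lTensor_injective_of_killed (u : N →ₗ[R] M)
    (h : Function.Injective (u.lTensor (IsLocalRing.ResidueField R)))
    (V : Type u) [AddCommGroup V] [Module R V] (hV : ∀ a ∈ 𝔪, ∀ v : V, a • v = 0) :
    Function.Injective (u.lTensor V) :=
  lTensor_injective_of_killed' (fun W _ _ => by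
    letI : Field (R ⧸ 𝔪) := Ideal.Quotient.field 𝔪
    infer_instance) u h V hV

/-- one step of the filtration -/
theorem mem_smul_of_map_mem (u : N →ₗ[R] M) [Module.Flat R M]
    (h : Function.Injective (u.lTensor (IsLocalRing.ResidueField R)))
    {A B : Ideal R} (hBA : B ≤ A) (hmA : 𝔪 * A ≤ B) {x : N} (hx : x ∈ A • (⊤ : Submodule R N))
    (hux : u x ∈ B • (⊤ : Submodule R M)) : x ∈ B • (⊤ : Submodule R N) :=
  mem_smul_of_map_mem' u (fun V _ _ hV => lTensor_injective_of_killed u h V hV) hBA hmA hx hux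

theorem mem_pow_sup_smul_of_map_mem (u : N →ₗ[R] M) [Module.Flat R M]
    (h : Function.Injective (u.lTensor (IsLocalRing.ResidueField R)))
    {J : Ideal R} {x : N} (hux : u x ∈ J • (⊤ : Submodule R M)) (n : ℕ) :
    x ∈ (𝔪 ^ n ⊔ J) • (⊤ : Submodule R N) :=
  mem_pow_sup_smul_of_map_mem' u (fun V _ _ hV => lTensor_injective_of_killed u h V hV) hux n

end Local

theorem smul_top_le_restrictScalars {S : Type u} [CommRing S] [Algebra R S] (Q : Type u)
    [AddCommGroup Q] [Module R Q] [Module S Q] [IsScalarTower R S Q] (A : Ideal R) :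
    (A • (⊤ : Submodule R Q)) ≤
      (A.map (algebraMap R S) • (⊤ : Submodule S Q)).restrictScalars R := by
  rw [Submodule.smul_le]
  intro a ha q _
  rw [Submodule.restrictScalars_mem, ← algebraMap_smul S a q]
  exact Submodule.smul_mem_smul (Ideal.mem_map_of_mem _ ha) trivial

/-- Krull intersection for a module finite over a noetherian local algebra -/
theorem mem_smul_of_forall_mem_pow_sup {S : Type u} [CommRing S] [IsLocalRing S] [IsNoetherianRing S]
    [IsLocalRing R] [Algebra R S] [IsLocalHom (algebraMap R S)] {Q : Type u} [AddCommGroup Q]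
    [Module R Q] [Module S Q] [IsScalarTower R S Q] [Module.Finite S Q] (J : Ideal R) {x : Q}
    (h : ∀ n, x ∈ ((IsLocalRing.maximalIdeal R) ^ n ⊔ J) • (⊤ : Submodule R Q)) :
    x ∈ J • (⊤ : Submodule R Q) := by
  set W := J.map (algebraMap R S) • (⊤ : Submodule S Q)
  have hle : (IsLocalRing.maximalIdeal R).map (algebraMap R S) ≤ Ideal.jacobson ⊥ := by
    rw [IsLocalRing.jacobson_eq_maximalIdeal (⊥ : Ideal S) bot_ne_top]
    exact Ideal.map_le_iff_le_comap.2 fun a ha => map_nonunit (algebraMap R S) a ha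
  have hW : W.mkQ x ∈ (⨅ i : ℕ, ((IsLocalRing.maximalIdeal R).map (algebraMap R S)) ^ i •
      (⊤ : Submodule S (Q ⧸ W))) := by
    rw [Submodule.mem_iInf]
    intro n
    have h1 := smul_top_le_restrictScalars (S := S) Q _ (h n)
    rw [Submodule.restrictScalars_mem, Ideal.map_sup, Ideal.map_pow, Submodule.sup_smul] at h1
    have h2 := Submodule.mem_map_of_mem (f := W.mkQ) h1
    rw [Submodule.map_sup, Submodule.mkQ_map_self, sup_bot_eq] at h2
    rw [Submodule.map_smul''] at h2
    exact Submodule.smul_mono le_rfl le_top h2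
  rw [Ideal.iInf_pow_smul_eq_bot_of_le_jacobson _ hle, Submodule.mem_bot, Submodule.mkQ_apply,
    Submodule.Quotient.mk_eq_zero] at hW
  -- descend from `S` to `R`
  have : ∀ y ∈ W, y ∈ J • (⊤ : Submodule R Q) := by
    let W' : Submodule S Q :=
      { carrier := (J • (⊤ : Submodule R Q) : Submodule R Q)
        add_mem' := fun ha hb => add_mem ha hb
        zero_mem' := zero_mem _
        smul_mem' := fun s y hy => by
          refine Submodule.smul_induction_on (p := fun y => s • y ∈ J • (⊤ : Submodule R Q)) hy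
            (fun a ha q _ => ?_) (fun p q hp hq => ?_)
          · rw [smul_comm]; exact Submodule.smul_mem_smul ha trivial
          · rw [smul_add]; exact add_mem hp hq }
    intro y hy
    suffices W ≤ W' from this hy
    rw [Submodule.smul_le]
    intro b hb
    induction hb using Submodule.span_induction with
    | mem b hb =>
      obtain ⟨a, ha, rfl⟩ := hb
      intro q _
      show algebraMap R S a • q ∈ J • (⊤ : Submodule R Q)
      rw [algebraMap_smul]
      exact Submodule.smul_mem_smul ha trivial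
    | zero => intro q _; rw [zero_smul]; exact W'.zero_mem
    | add b c _ _ hb hc => intro q _; rw [add_smul]; exact W'.add_mem (hb q trivial) (hc q trivial)
    | smul b c _ hc => intro q _; rw [smul_eq_mul, mul_smul]; exact W'.smul_mem b (hc q trivial)
  exact this x hW

/-- flatness of a quotient of a flat module -/
theorem flat_of_exact [Module.Flat R F] (ι : N →ₗ[R] F) (hι : Function.Injective ι) (π : F →ₗ[R] M)
    (hπ : Function.Surjective π) (hexact : Function.Exact ι π)
    (h : ∀ (J : Ideal R), J.FG → ∀ x, ι x ∈ J • (⊤ : Submodule R F) → x ∈ J • (⊤ : Submodule R N)) :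
    Module.Flat R M := by
  rw [Module.Flat.iff_rTensor_injective]
  intro J hJ
  suffices Function.Injective (mulMap J M) by
    intro a b hab
    apply this
    exact congrArg (TensorProduct.lid R M) hab
  rw [← LinearMap.ker_eq_bot, LinearMap.ker_eq_bot']
  intro z hz
  obtain ⟨y, rfl⟩ := LinearMap.lTensor_surjective J hπ z
  rw [mulMap_lTensor] at hz
  obtain ⟨k, hk⟩ := (hexact _).1 hz
  obtain ⟨y', hy'⟩ := exists_mulMap_eq (h J hJ k (hk ▸ mulMap_mem J y))
  have : ι.lTensor J y' = y := mulMap_injective J (by rw [mulMap_lTensor, hy', hk])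
  rw [← this]
  exact (lTensor_exact J hexact hπ).apply_apply_eq_zero y'

theorem mem_smul_of_map_mem_of_mulMap_injective (ι : N →ₗ[R] F) (hι : Function.Injective ι)
    (π : F →ₗ[R] M) (hπ : Function.Surjective π) (hexact : Function.Exact ι π) (J : Ideal R)
    (hJ : Function.Injective (mulMap J M)) {x : N} (hx : ι x ∈ J • (⊤ : Submodule R F)) :
    x ∈ J • (⊤ : Submodule R N) := by
  obtain ⟨y, hy⟩ := exists_mulMap_eq hx
  have h0 : π.lTensor J y = 0 := hJ (by rw [mulMap_lTensor, hy, hexact.apply_apply_eq_zero, map_zero])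
  obtain ⟨y', rfl⟩ := ((lTensor_exact J hexact hπ) y).1 h0
  rw [mulMap_lTensor] at hy
  rw [← hι hy]
  exact mulMap_mem J y'

theorem finsupp_mem_smul_top_iff {α : Type u} (A : Ideal R) (v : α →₀ R) :
    v ∈ A • (⊤ : Submodule R (α →₀ R)) ↔ ∀ i, v i ∈ A := by
  constructor
  · intro hv i
    refine Submodule.smul_induction_on (p := fun v => v i ∈ A) hv (fun a ha w _ => ?_) (fun p q hp hq => ?_)
    · simpa using A.mul_mem_right (w i) ha
    · simpa using add_mem hp hq
  · intro hv
    rw [← v.sum_single, Finsupp.sum]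
    refine Submodule.sum_mem _ fun i _ => ?_
    rw [show Finsupp.single i (v i) = v i • Finsupp.single i (1 : R) by simp]
    exact Submodule.smul_mem_smul (hv i) trivial

end Groth.Agent.LocalCrit
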