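import Groth.Agent.LocalCrit.Criterion
import Mathlib.RingTheory.Flat.FaithfullyFlat.Basic
import Mathlib.RingTheory.LocalRing.Module
import Mathlib.RingTheory.Nakayama

/-!
Fibrewise consequences of the local criterion of flatness.
-/

universe u
open TensorProduct

namespace Groth.Agent.LocalCrit

variable {R S : Type u} [CommRing R] [CommRing S] [IsLocalRing R] [IsLocalRing S] [Algebra R S]
  [IsLocalHom (algebraMap R S)]

local notation "𝔪" => IsLocalRing.maximalIdeal R
local notation "𝔪S" => Ideal.map (algebraMap R S) (IsLocalRing.maximalIdeal R)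

theorem map_maximalIdeal_le : 𝔪S ≤ IsLocalRing.maximalIdeal S :=
  Ideal.map_le_iff_le_comap.2 fun a ha => map_nonunit (algebraMap R S) a ha

variable {M : Type u} [AddCommGroup M] [Module R M] [Module S M] [IsScalarTower R S M]

theorem mem_smul_top_of_coords {α : Type u} (v : α →₀ S) (h : ∀ i, v i ∈ 𝔪S) :
    v ∈ 𝔪 • (⊤ : Submodule R (α →₀ S)) := by
  rw [← v.sum_single, Finsupp.sum]
  refine Submodule.sum_mem _ fun i _ => ?_
  have h1 : v i ∈ 𝔪 • (⊤ : Submodule R S) := by rw [Ideal.smul_top_eq_map]; exact h i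
  have h2 := Submodule.mem_map_of_mem (f := (Finsupp.lsingle i : S →ₗ[R] (α →₀ S))) h1
  rw [Submodule.map_smul''] at h2
  exact Submodule.smul_mono le_rfl le_top h2

/-- the map `m ⊗_R M → mS ⊗_S M` makes `mS ⊗_S M → M` injective -/
theorem mulMap_map_injective (hm : Function.Injective (mulMap 𝔪 M)) :
    Function.Injective (mulMap (R := S) 𝔪S M) := by
  classical
  let φ : 𝔪 ⊗[R] M →+ (𝔪S : Ideal S) ⊗[S] M :=
    TensorProduct.liftAddHom
      { toFun := fun a =>
          { toFun := fun x => (⟨algebraMap R S a, Ideal.mem_map_of_mem _ a.2⟩ : 𝔪S) ⊗ₜ[S] x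
            map_zero' := tmul_zero _ _
            map_add' := fun x y => tmul_add _ _ _ }
        map_zero' := by
          ext x
          show ((⟨algebraMap R S 0, _⟩ : 𝔪S) ⊗ₜ[S] x) = 0
          rw [show (⟨algebraMap R S 0, _⟩ : 𝔪S) = 0 from Subtype.ext (map_zero _), zero_tmul]
        map_add' := fun a b => by
          ext x
          show ((⟨algebraMap R S ((a + b : 𝔪) : R), _⟩ : 𝔪S) ⊗ₜ[S] x) = _ ⊗ₜ[S] x + _ ⊗ₜ[S] x
          rw [← add_tmul]
          congr 1
          exact Subtype.ext (map_add (algebraMap R S) _ _) }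
      (fun r a x => by
        show _ ⊗ₜ[S] x = _ ⊗ₜ[S] (r • x)
        rw [← algebraMap_smul S r x, ← TensorProduct.smul_tmul]
        congr 1
        exact Subtype.ext (map_mul (algebraMap R S) r a))
  have hφ : ∀ w, mulMap (R := S) 𝔪S M (φ w) = mulMap 𝔪 M w := by
    intro w
    induction w using TensorProduct.induction_on with
    | zero => simp
    | tmul a x => simp [φ]
    | add p q hp hq => simp [map_add, hp, hq]
  have hsurj : Function.Surjective φ := by
    intro z
    induction z using TensorProduct.induction_on with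
    | zero => exact ⟨0, map_zero φ⟩
    | tmul a x =>
      obtain ⟨b, hb⟩ := a
      induction hb using Submodule.span_induction generalizing x with
      | mem b hb => obtain ⟨r, hr, rfl⟩ := hb; exact ⟨(⟨r, hr⟩ : 𝔪) ⊗ₜ x, rfl⟩
      | zero =>
        refine ⟨0, ?_⟩
        rw [map_zero, show (⟨0, _⟩ : 𝔪S) = 0 from rfl, zero_tmul]
      | add b c hb hc ihb ihc =>
        obtain ⟨p, hp⟩ := ihb x
        obtain ⟨q, hq⟩ := ihc x
        exact ⟨p + q, by rw [map_add, hp, hq, ← add_tmul]; rfl⟩
      | smul s b hb ih =>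
        obtain ⟨p, hp⟩ := ih (s • x)
        exact ⟨p, by rw [hp, ← TensorProduct.smul_tmul]; rfl⟩
    | add p q hp hq =>
      obtain ⟨a, rfl⟩ := hp
      obtain ⟨b, rfl⟩ := hq
      exact ⟨a + b, map_add φ a b⟩
  rw [← LinearMap.ker_eq_bot, LinearMap.ker_eq_bot']
  intro z hz
  obtain ⟨w, rfl⟩ := hsurj z
  rw [hφ] at hz
  rw [(hm (hz.trans (map_zero _).symm) : w = 0), map_zero]

/-- if `M` is a faithfully flat `S`-module which is flat over `R`, then `S` is flat over `R` -/
theorem flat_of_faithfullyFlat [Module.Flat R M] [Module.FaithfullyFlat S M] : Module.Flat R S := by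
  rw [Module.Flat.iff_rTensor_injective]
  intro J _
  let f : S ⊗[R] J →ₗ[S] S := LinearMap.liftBaseChange S ((Algebra.linearMap R S) ∘ₗ Submodule.subtype J)
  have hc : ∀ z : M ⊗[S] (S ⊗[R] J), TensorProduct.rid S M (f.lTensor M z) =
      mulMap J M (TensorProduct.comm R M J (AlgebraTensorModule.cancelBaseChange R S S M J z)) := by
    intro z
    induction z using TensorProduct.induction_on with
    | zero => simp
    | tmul m w =>
      induction w using TensorProduct.induction_on with
      | zero => simp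
      | tmul s a =>
        simp [f]
        rw [mul_smul, algebraMap_smul, smul_comm]
      | add x y hx hy => simp only [tmul_add, map_add, hx, hy]
    | add x y hx hy => simp only [map_add, hx, hy]
  have h1 : Function.Injective (f.lTensor M) := fun a b hab => by
    have h := congrArg (TensorProduct.rid S M) hab
    rw [hc, hc] at h
    exact (AlgebraTensorModule.cancelBaseChange R S S M J).injective
      ((TensorProduct.comm R M J).injective (mulMap_injective J h))
  have hf : Function.Injective f := (Module.FaithfullyFlat.lTensor_injective_iff_injective S M f).1 h1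
  have hc2 : ∀ z, TensorProduct.lid R S ((Submodule.subtype J).rTensor S z) =
      f (TensorProduct.comm R J S z) := by
    intro z
    induction z using TensorProduct.induction_on with
    | zero => simp
    | tmul a s => simp [f, Algebra.smul_def, mul_comm]
    | add x y hx hy => simp only [map_add, hx, hy]
  intro a b hab
  refine (TensorProduct.comm R J S).injective (hf ?_)
  rw [← hc2, ← hc2, hab]

variable [IsNoetherianRing S] [Module.Finite S M]

include S in
theorem eq_bot_of_le_smul (N : Submodule S M) (hle : N ≤ 𝔪S • N) : N = ⊥ :=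
  Submodule.eq_bot_of_le_smul_of_le_jacobson_bot 𝔪S N (IsNoetherian.noetherian N) hle
    (by rw [IsLocalRing.jacobson_eq_maximalIdeal (⊥ : Ideal S) bot_ne_top]; exact map_maximalIdeal_le)

/-- a module flat over `R` whose closed fibre is free is free -/
theorem free_of_free_fibre [Module.Flat R M] [Nontrivial M]
    (h : Module.Free (S ⧸ 𝔪S) ((S ⧸ 𝔪S) ⊗[S] M)) : Module.Free S M ∧ Module.Flat R S := by
  classical
  have : Nontrivial (S ⧸ 𝔪S) :=
    Ideal.Quotient.nontrivial_iff.2 fun h => (IsLocalRing.maximalIdeal.isMaximal S).ne_top (top_le_iff.1 (h ▸ map_maximalIdeal_le))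
  let b := Module.Free.chooseBasis (S ⧸ 𝔪S) ((S ⧸ 𝔪S) ⊗[S] M)
  let α := Module.Free.ChooseBasisIndex (S ⧸ 𝔪S) ((S ⧸ 𝔪S) ⊗[S] M)
  choose m hm using fun i => exists_one_tmul 𝔪S (b i)
  let u : (α →₀ S) →ₗ[S] M := Finsupp.linearCombination S m
  have hcalc : ∀ v : α →₀ S, (1 : S ⧸ 𝔪S) ⊗ₜ[S] u v =
      v.sum fun i s => (Ideal.Quotient.mk 𝔪S s) • b i := by
    intro v
    simp only [u, Finsupp.linearCombination_apply, Finsupp.sum, tmul_sum, tmul_smul]
    refine Finset.sum_congr rfl fun i _ => ?_
    rw [← hm, ← Ideal.Quotient.algebraMap_eq, algebraMap_smul]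
  -- surjectivity
  have hsurj : LinearMap.range u = ⊤ := by
    refine top_le_iff.1 (Submodule.le_of_le_smul_of_le_jacobson_bot (I := 𝔪S) Module.Finite.fg_top
      (by rw [IsLocalRing.jacobson_eq_maximalIdeal (⊥ : Ideal S) bot_ne_top]; exact map_maximalIdeal_le)
      fun x _ => ?_)
    choose c hc using fun i => Ideal.Quotient.mk_surjective (b.repr ((1 : S ⧸ 𝔪S) ⊗ₜ[S] x) i)
    let v : α →₀ S := Finsupp.onFinset (b.repr ((1 : S ⧸ 𝔪S) ⊗ₜ[S] x)).support
      (fun i => if i ∈ (b.repr ((1 : S ⧸ 𝔪S) ⊗ₜ[S] x)).support then c i else 0)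
      (fun i hi => by by_contra hne; simp [hne] at hi)
    have hv : x - u v ∈ 𝔪S • (⊤ : Submodule S M) := by
      rw [← one_tmul_eq_zero_iff, tmul_sub, hcalc, sub_eq_zero]
      conv_lhs => rw [← b.linearCombination_repr ((1 : S ⧸ 𝔪S) ⊗ₜ[S] x)]
      rw [Finsupp.linearCombination_apply, Finsupp.onFinset_sum _ (by simp), Finsupp.sum]
      refine Finset.sum_congr rfl fun i hi => ?_
      rw [if_pos hi, hc]
    rw [← sub_add_cancel x (u v)]
    exact add_mem (Submodule.mem_sup_right hv) (Submodule.mem_sup_left (LinearMap.mem_range_self u v))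
  have hfin : Module.Finite S (α →₀ S) := inferInstance
  -- kernel
  have hker : LinearMap.ker u = ⊥ := by
    refine Submodule.eq_bot_of_le_smul_of_le_jacobson_bot 𝔪S _ (IsNoetherian.noetherian _) ?_
      (by rw [IsLocalRing.jacobson_eq_maximalIdeal (⊥ : Ideal S) bot_ne_top]; exact map_maximalIdeal_le)
    obtain ⟨K, _, _, ι, hι, hιr⟩ : ∃ (K : Type u) (_ : AddCommGroup K) (_ : Module R K)
        (ι : K →ₗ[R] (α →₀ S)), Function.Injective ι ∧
          LinearMap.range ι = (LinearMap.ker u).restrictScalars R :=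
      ⟨(LinearMap.ker u).restrictScalars R, inferInstance, inferInstance,
        Submodule.subtype _, Subtype.val_injective, Submodule.range_subtype _⟩
    have hexact : Function.Exact ι (u.restrictScalars R) := by
      rw [LinearMap.exact_iff, hιr]; rfl
    intro v hv
    obtain ⟨k, rfl⟩ : v ∈ LinearMap.range ι := by rw [hιr]; exact hv
    have hcoord : ∀ i, (ι k) i ∈ 𝔪S := by
      intro i
      have h0 := hcalc (ι k)
      rw [LinearMap.mem_ker.1 hv, tmul_zero] at h0
      have h1 := congrArg (fun t => b.repr t i) h0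
      simp only [map_zero, Finsupp.coe_zero, Pi.zero_apply, Finsupp.sum, map_sum, map_smul,
        Module.Basis.repr_self, Finsupp.coe_finsetSum, Finset.sum_apply, Finsupp.coe_smul,
        Pi.smul_apply, smul_eq_mul, Finsupp.single_apply, mul_ite, mul_one, mul_zero,
        Finset.sum_ite_eq', Finsupp.mem_support_iff, ne_eq, ite_not] at h1
      rw [← Ideal.Quotient.eq_zero_iff_mem]
      split_ifs at h1 with h2
      · rw [h2, map_zero]
      · exact h1.symm
    have hsurjR : Function.Surjective (u.restrictScalars R) := fun x => by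
      have hx : x ∈ LinearMap.range u := hsurj.symm ▸ Submodule.mem_top
      exact hx
    have hk := mem_smul_of_map_mem_of_mulMap_injective ι hι (u.restrictScalars R) hsurjR hexact 𝔪
      (mulMap_injective 𝔪) (mem_smul_top_of_coords (ι k) hcoord)
    have hk2 := Submodule.mem_map_of_mem (f := ι) hk
    rw [Submodule.map_smul'', Submodule.map_top, hιr] at hk2
    refine Submodule.smul_induction_on hk2 (fun a ha w hw => ?_) (fun p q hp hq => add_mem hp hq)
    rw [← algebraMap_smul S a w]
    exact Submodule.smul_mem_smul (Ideal.mem_map_of_mem _ ha) hw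
  let e : (α →₀ S) ≃ₗ[S] M :=
    LinearEquiv.ofBijective u ⟨LinearMap.ker_eq_bot.1 hker, LinearMap.range_eq_top.1 hsurj⟩
  refine ⟨Module.Free.of_basis ⟨e.symm⟩, ?_⟩
  have : Nonempty α := by
    by_contra hne
    rw [not_nonempty_iff] at hne
    exact not_subsingleton M (e.toEquiv.symm.subsingleton)
  obtain ⟨i₀⟩ := this
  refine Module.Flat.of_retract ((e.restrictScalars R).toLinearMap ∘ₗ Finsupp.lsingle i₀)
    (Finsupp.lapply i₀ ∘ₗ (e.symm.restrictScalars R).toLinearMap) ?_
  ext s
  simp

end Groth.Agent.LocalCrit
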