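import Groth.Agent.LocalCrit.Basic
import Mathlib.RingTheory.Flat.FaithfullyFlat.Basic
import Mathlib.RingTheory.Finiteness.Cardinality
import Mathlib.RingTheory.Ideal.BigOperators

/-!
The local criterion of flatness and its standard consequences.
-/

universe u
open TensorProduct

namespace Groth.Agent.LocalCrit

variable {R : Type u} [CommRing R] [IsLocalRing R]

local notation "𝔪" => IsLocalRing.maximalIdeal R

theorem residue_lTensor_injective {N M F : Type u} [AddCommGroup N] [Module R N] [AddCommGroup M]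
    [Module R M] [AddCommGroup F] [Module R F] (ι : N →ₗ[R] F) (hι : Function.Injective ι)
    (π : F →ₗ[R] M) (hπ : Function.Surjective π) (hexact : Function.Exact ι π)
    (hm : Function.Injective (mulMap 𝔪 M)) :
    Function.Injective (ι.lTensor (IsLocalRing.ResidueField R)) :=
  (quot_lTensor_injective_iff 𝔪 ι).2 fun _ hx =>
    mem_smul_of_map_mem_of_mulMap_injective ι hι π hπ hexact _ hm hx

theorem exists_presentation (M : Type u) [AddCommGroup M] [Module R M] :
    ∃ (K : Type u) (_ : AddCommGroup K) (_ : Module R K) (ι : K →ₗ[R] (M →₀ R))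
      (π : (M →₀ R) →ₗ[R] M),
      Function.Injective ι ∧ Function.Surjective π ∧ Function.Exact ι π :=
  ⟨LinearMap.ker (Finsupp.linearCombination R (id : M → M)), inferInstance, inferInstance,
    (LinearMap.ker (Finsupp.linearCombination R (id : M → M))).subtype,
    Finsupp.linearCombination R (id : M → M), Subtype.val_injective,
    fun m => ⟨Finsupp.single m 1, by simp⟩, LinearMap.exact_subtype_ker_map _⟩

section criterion

variable {S : Type u} [CommRing S] [IsLocalRing S] [IsNoetherianRing S] [Algebra R S]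
  [IsLocalHom (algebraMap R S)]
variable {M : Type u} [AddCommGroup M] [Module R M] [Module S M] [IsScalarTower R S M]
  [Module.Finite S M]

theorem finite_tensor_ideal (I : Ideal R) (hI : I.FG) : Module.Finite S (M ⊗[R] I) := by
  obtain ⟨n, a, ha⟩ := Submodule.fg_iff_exists_fin_generating_family.1 hI
  have ha' : ∀ i, a i ∈ I := fun i => ha ▸ Submodule.subset_span ⟨i, rfl⟩
  let φ : (Fin n → M) →ₗ[S] M ⊗[R] I :=
    { toFun := fun v => ∑ i, v i ⊗ₜ (⟨a i, ha' i⟩ : I)
      map_add' := fun v w => by simp [add_tmul, Finset.sum_add_distrib]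
      map_smul' := fun s v => by simp [Finset.smul_sum, smul_tmul'] }
  refine Module.Finite.of_surjective φ fun z => ?_
  induction z using TensorProduct.induction_on with
  | zero => exact ⟨0, map_zero φ⟩
  | tmul m b =>
    obtain ⟨c, hc⟩ := (Submodule.mem_span_range_iff_exists_fun R).1 (ha.ge b.2)
    refine ⟨fun i => c i • m, ?_⟩
    have hb : b = ∑ i, c i • (⟨a i, ha' i⟩ : I) := Subtype.ext (by simp [← hc])
    show ∑ i, (c i • m) ⊗ₜ (⟨a i, ha' i⟩ : I) = m ⊗ₜ b
    simp only [hb, tmul_sum, smul_tmul]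
  | add x y hx hy =>
    obtain ⟨v, rfl⟩ := hx
    obtain ⟨w, rfl⟩ := hy
    exact ⟨v + w, map_add φ v w⟩

variable (S) in
include S in
/-- **Local criterion of flatness** -/
theorem flat_of_mulMap_injective [IsNoetherianRing R] (hm : Function.Injective (mulMap 𝔪 M)) :
    Module.Flat R M := by
  classical
  obtain ⟨K, _, _, ι, π, hι, hπ, hexact⟩ := exists_presentation (R := R) M
  have hk := residue_lTensor_injective ι hι π hπ hexact hm
  rw [Module.Flat.iff_rTensor_injective]
  intro I hI
  suffices Function.Injective (mulMap I M) by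
    intro a b hab
    apply this
    exact congrArg (TensorProduct.lid R M) hab
  rw [← LinearMap.ker_eq_bot, LinearMap.ker_eq_bot']
  intro z hz
  obtain ⟨y, rfl⟩ := LinearMap.lTensor_surjective I hπ z
  rw [mulMap_lTensor] at hz
  obtain ⟨k, hk'⟩ := (hexact _).1 hz
  -- it suffices to see that it lies in every `𝔪 ^ j • (I ⊗ M)`
  obtain ⟨c, hc⟩ := Ideal.exists_pow_inf_eq_pow_smul (M := R) 𝔪 I
  have key : ∀ j, π.lTensor I y ∈ 𝔪 ^ j • (⊤ : Submodule R (I ⊗[R] M)) := by
    intro j
    have hmem := mem_pow_sup_smul_of_map_mem ι hk (hk'.symm ▸ mulMap_mem I y : ι k ∈ I • (⊤ : Submodule R (M →₀ R))) (j + c)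
    rw [Submodule.sup_smul] at hmem
    obtain ⟨k2, hk2, k1, hk1, rfl⟩ := Submodule.mem_sup.1 hmem
    obtain ⟨y1, hy1⟩ := exists_mulMap_eq hk1
    have hd : mulMap I (M →₀ R) (y - ι.lTensor I y1) = ι k2 := by
      rw [map_sub, mulMap_lTensor, hy1, ← hk', map_add, add_sub_cancel_right]
    have h2 : ι k2 ∈ (𝔪 ^ j * I) • (⊤ : Submodule R (M →₀ R)) := by
      rw [finsupp_mem_smul_top_iff]
      intro i
      have e1 : ι k2 ∈ 𝔪 ^ (j + c) • (⊤ : Submodule R (M →₀ R)) :=
        (Submodule.smul_mono le_rfl le_top : 𝔪 ^ (j + c) • Submodule.map ι ⊤ ≤ _)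
          (Submodule.map_smul'' (𝔪 ^ (j + c)) ⊤ ι ▸ Submodule.mem_map_of_mem hk2)
      have e2 : ι k2 ∈ I • (⊤ : Submodule R (M →₀ R)) := hd ▸ mulMap_mem I _
      have e3 : (ι k2) i ∈ 𝔪 ^ (j + c) • (⊤ : Submodule R R) ⊓ I :=
        ⟨by simpa using (finsupp_mem_smul_top_iff _ _).1 e1 i, (finsupp_mem_smul_top_iff _ _).1 e2 i⟩
      rw [hc (j + c) (Nat.le_add_left _ _), Nat.add_sub_cancel] at e3
      exact (Submodule.smul_mono le_rfl inf_le_right : 𝔪 ^ j • (𝔪 ^ c • ⊤ ⊓ (I : Submodule R R)) ≤ 𝔪 ^ j • I) e3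
    have h3 : y - ι.lTensor I y1 ∈ 𝔪 ^ j • (⊤ : Submodule R (I ⊗[R] (M →₀ R))) := by
      rw [Submodule.mul_smul, ← range_mulMap, LinearMap.range_eq_map, ← Submodule.map_smul'',
        ← hd] at h2
      obtain ⟨w, hw, hwe⟩ := h2
      rwa [mulMap_injective I hwe] at hw
    have h4 := Submodule.mem_map_of_mem (f := π.lTensor I) h3
    rw [map_sub, (lTensor_exact I hexact hπ).apply_apply_eq_zero, sub_zero, Submodule.map_smul''] at h4
    exact Submodule.smul_mono le_rfl le_top h4
  haveI : Module.Finite S (M ⊗[R] I) := finite_tensor_ideal I hI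
  have h0 : ∀ j, TensorProduct.comm R I M (π.lTensor I y) ∈
      (𝔪 ^ j ⊔ ⊥) • (⊤ : Submodule R (M ⊗[R] I)) := by
    intro j
    rw [sup_bot_eq]
    have h5 := Submodule.mem_map_of_mem (f := (TensorProduct.comm R I M).toLinearMap) (key j)
    rw [Submodule.map_smul''] at h5
    exact Submodule.smul_mono le_rfl le_top h5
  have := mem_smul_of_forall_mem_pow_sup (S := S) ⊥ h0
  simpa using this

variable (S) in
include S in
/-- if `u : N → M` is injective mod `𝔪`, `N` is finite over `S` and `M` is `R`-flat then `u` is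
injective with flat cokernel. -/
theorem injective_and_flat_of_residue_injective {N P : Type u} [AddCommGroup N] [Module R N]
    [Module S N] [IsScalarTower R S N] [Module.Finite S N] [AddCommGroup P] [Module R P]
    [Module.Flat R P] (u : N →ₗ[R] P)
    (h : Function.Injective (u.lTensor (IsLocalRing.ResidueField R))) :
    Function.Injective u ∧ Module.Flat R (P ⧸ LinearMap.range u) := by
  have hmem : ∀ (J : Ideal R) x, u x ∈ J • (⊤ : Submodule R P) → x ∈ J • (⊤ : Submodule R N) :=
    fun J x hx => mem_smul_of_forall_mem_pow_sup (S := S) J (mem_pow_sup_smul_of_map_mem u h hx)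
  have hu : Function.Injective u := by
    rw [← LinearMap.ker_eq_bot, LinearMap.ker_eq_bot']
    intro x hx
    simpa using hmem ⊥ x (by simp [hx])
  refine ⟨hu, flat_of_exact u hu (LinearMap.range u).mkQ (Submodule.mkQ_surjective _) ?_ fun J _ => hmem J⟩
  exact LinearMap.exact_iff.2 (Submodule.ker_mkQ _)

variable (S) in
include S in
/-- variant of the local criterion: `I ⊗ M → M` injective and `M / I M` flat over `R / I`. -/
theorem flat_of_quotient_flat [IsNoetherianRing R] (I : Ideal R) (hI : I ≠ ⊤)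
    (h1 : Function.Injective (mulMap I M))
    (h2 : Module.Flat (R ⧸ I) ((R ⧸ I) ⊗[R] M)) : Module.Flat R M := by
  classical
  refine flat_of_mulMap_injective S ?_
  have hIm : I ≤ 𝔪 := IsLocalRing.le_maximalIdeal hI
  obtain ⟨K, _, _, ι, π, hι, hπ, hexact⟩ := exists_presentation (R := R) M
  -- the key statement `ker π ∩ 𝔪 F ⊆ 𝔪 ker π`
  have hK : ∀ k, ι k ∈ 𝔪 • (⊤ : Submodule R (M →₀ R)) → k ∈ 𝔪 • (⊤ : Submodule R K) := by
    intro k hk
    obtain ⟨s, a, v, hav⟩ : ∃ (s : ℕ) (a : Fin s → R) (v : Fin s → M →₀ R),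
        (∀ i, a i ∈ 𝔪) ∧ ι k = ∑ i, a i • v i := by
      refine Submodule.smul_induction_on hk (fun r hr w _ => ⟨1, fun _ => r, fun _ => w, fun _ => hr, by simp⟩) ?_
      rintro p q ⟨s, a, v, ha, hp⟩ ⟨t, b, w, hb, hq⟩
      refine ⟨s + t, Fin.append a b, Fin.append v w, fun i => ?_, ?_⟩
      · induction i using Fin.addCases with
        | left i => simpa using ha i
        | right i => simpa using hb i
      · rw [hp, hq, Fin.sum_univ_add]; simp
    obtain ⟨ha, hsum⟩ := hav
    let Q := (R ⧸ I) ⊗[R] M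
    have hrel : ∑ i, (Ideal.Quotient.mk I (a i)) • ((1 : R ⧸ I) ⊗ₜ[R] π (v i)) = (0 : Q) := by
      have h0 : π (ι k) = 0 := hexact.apply_apply_eq_zero k
      rw [hsum, map_sum] at h0
      have := congrArg (fun t => (1 : R ⧸ I) ⊗ₜ[R] t) h0
      simp only [map_smul, tmul_sum, tmul_smul, tmul_zero] at this
      refine Eq.trans (Finset.sum_congr rfl fun i _ => ?_) this
      rw [← Ideal.Quotient.algebraMap_eq, algebraMap_smul]
    obtain ⟨l, r, yy, hr, har⟩ := Module.Flat.isTrivialRelation_of_sum_smul_eq_zero hrel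
    choose r' hr' using fun i j => Ideal.Quotient.mk_surjective (r i j)
    choose y' hy' using fun j => exists_one_tmul I (yy j)
    choose g hg using fun j => hπ (y' j)
    have he : ∀ i, ∃ e ∈ I • (⊤ : Submodule R (M →₀ R)), ∃ κ,
        v i = ∑ j, r' i j • g j + e + ι κ := by
      intro i
      have h0 : π (v i - ∑ j, r' i j • g j) ∈ I • (⊤ : Submodule R M) := by
        rw [← one_tmul_eq_zero_iff, map_sub, map_sum, tmul_sub, tmul_sum, sub_eq_zero, show (1 : R ⧸ I) ⊗ₜ[R] π (v i) = ∑ j, r i j • yy j from hr i]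
        refine Finset.sum_congr rfl fun j _ => ?_
        rw [map_smul, tmul_smul, hg, ← hy', ← hr', ← Ideal.Quotient.algebraMap_eq, algebraMap_smul]
      rw [← Submodule.map_top (f := π) |>.trans (LinearMap.range_eq_top.2 hπ),
        ← Submodule.map_smul''] at h0
      obtain ⟨e, he, hee⟩ := h0
      obtain ⟨κ, hκ⟩ := (hexact (v i - ∑ j, r' i j • g j - e)).1 (by rw [map_sub, hee, sub_self])
      exact ⟨e, he, κ, by rw [hκ]; abel⟩
    choose e hemem κ hκ using he
    have hι' : ι (k - ∑ i, a i • κ i) ∈ I • (⊤ : Submodule R (M →₀ R)) := by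
      have : ι (k - ∑ i, a i • κ i) = ∑ j, (∑ i, a i * r' i j) • g j + ∑ i, a i • e i := by
        rw [map_sub, hsum, map_sum]
        simp only [map_smul, ← Finset.sum_sub_distrib, hκ, ← smul_sub, add_sub_cancel_right, smul_add,
          Finset.smul_sum, smul_smul, Finset.sum_add_distrib, Finset.sum_smul]
        rw [Finset.sum_comm]
      rw [this]
      refine add_mem (Submodule.sum_mem _ fun j _ => ?_) (Submodule.sum_mem _ fun i _ =>
        Submodule.smul_mem _ _ (hemem i))
      refine Submodule.smul_mem_smul (Ideal.Quotient.eq_zero_iff_mem.1 ?_) trivial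
      simp only [map_sum, map_mul, hr']
      exact har j
    have h3 := mem_smul_of_map_mem_of_mulMap_injective ι hι π hπ hexact I h1 hι'
    rw [← sub_add_cancel k (∑ i, a i • κ i)]
    exact add_mem (Submodule.smul_mono_left hIm h3)
      (Submodule.sum_mem _ fun i _ => Submodule.smul_mem_smul (ha i) trivial)
  rw [← LinearMap.ker_eq_bot, LinearMap.ker_eq_bot']
  intro z hz
  obtain ⟨y, rfl⟩ := LinearMap.lTensor_surjective (R := R) 𝔪 hπ z
  rw [mulMap_lTensor] at hz
  obtain ⟨k, hk'⟩ := (hexact _).1 hz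
  obtain ⟨y', hy'⟩ := exists_mulMap_eq (hK k (hk' ▸ mulMap_mem 𝔪 y))
  have : ι.lTensor 𝔪 y' = y := mulMap_injective (R := R) 𝔪 (by rw [mulMap_lTensor, hy', hk'])
  rw [← this]
  exact (lTensor_exact (R := R) 𝔪 hexact hπ).apply_apply_eq_zero y'

end criterion

end Groth.Agent.LocalCrit
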