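import Groth.Agent.LocalCrit.Basic
import Mathlib.RingTheory.Idempotents
import Mathlib.RingTheory.Artinian.Module
import Mathlib.RingTheory.Jacobson.Semiprimary
import Mathlib.Algebra.Module.Projective

/-!
Projective covers over semiprimary rings and a flatness descent statement along injective maps.
-/

universe u
open TensorProduct

namespace Groth.Agent.LocalCrit

variable {R : Type u} [CommRing R]

theorem exists_idempotent_lift (J : Ideal R) (n : ℕ) (hn : J ^ n = 0) {F : Type u} [AddCommGroup F]
    [Module R F] [Module.Projective R F] (eb : Module.End R (F ⧸ (J • (⊤ : Submodule R F))))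
    (heb : IsIdempotentElem eb) :
    ∃ e : Module.End R F, IsIdempotentElem e ∧
      ∀ x, eb (Submodule.Quotient.mk x) = Submodule.Quotient.mk (e x) := by
  have hW : ∀ φ : F →ₗ[R] F, (J • ⊤ : Submodule R F) ≤ (J • ⊤ : Submodule R F).comap φ := fun φ => by
    rw [← Submodule.map_le_iff_le_comap, Submodule.map_smul'']
    exact Submodule.smul_mono le_rfl le_top
  obtain ⟨Φ, hΦ⟩ : ∃ Φ : Module.End R F →+* Module.End R (F ⧸ (J • (⊤ : Submodule R F))),
      ∀ φ x, Φ φ (Submodule.Quotient.mk x) = Submodule.Quotient.mk (φ x) :=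
    ⟨{ toFun := fun φ => Submodule.mapQ _ _ φ (hW φ)
       map_one' := by ext; simp
       map_mul' := fun φ ψ => by ext; simp
       map_zero' := by ext; simp
       map_add' := fun φ ψ => by ext; simp }, fun φ x => rfl⟩
  obtain ⟨φ, hφ⟩ := Module.projective_lifting_property (Submodule.mkQ (J • (⊤ : Submodule R F)))
    (eb ∘ₗ Submodule.mkQ _) (Submodule.mkQ_surjective _)
  have hlift : eb ∈ RingHom.range Φ := by
    refine ⟨φ, LinearMap.ext fun x => ?_⟩
    obtain ⟨x, rfl⟩ := Submodule.Quotient.mk_surjective _ x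
    rw [hΦ]
    exact LinearMap.congr_fun hφ x
  have hnil : ∀ φ ∈ RingHom.ker Φ, IsNilpotent φ := by
    intro φ hφ
    have h1 : ∀ x, φ x ∈ (J • ⊤ : Submodule R F) := fun x => by
      rw [← Submodule.Quotient.mk_eq_zero, ← hΦ, RingHom.mem_ker.1 hφ, LinearMap.zero_apply]
    have h2 : ∀ k, ∀ x, (φ ^ k) x ∈ J ^ k • (⊤ : Submodule R F) := by
      intro k
      induction k with
      | zero => intro x; simp
      | succ k ih =>
        intro x
        rw [pow_succ φ k, Module.End.mul_apply, pow_succ J k, Submodule.mul_smul]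
        have := Submodule.mem_map_of_mem (f := φ ^ k) (h1 x)
        rw [Submodule.map_smul''] at this
        refine (?_ : J • Submodule.map (φ ^ k) ⊤ ≤ _) this
        rw [← Submodule.mul_smul, mul_comm, Submodule.mul_smul]
        refine Submodule.smul_mono le_rfl ?_
        rintro _ ⟨y, _, rfl⟩
        exact ih y
    exact ⟨n, LinearMap.ext fun x => by simpa [hn] using h2 n x⟩
  obtain ⟨e, he, hee⟩ := exists_isIdempotentElem_eq_of_ker_isNilpotent Φ hnil eb hlift heb
  exact ⟨e, he, fun x => by rw [← hee, hΦ]⟩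

theorem exists_projective_cover_aux (J : Ideal R) (n : ℕ) (hn : J ^ n = 0) [IsSemisimpleRing (R ⧸ J)]
    {F M : Type u} [AddCommGroup F] [Module R F] [Module.Projective R F] [AddCommGroup M] [Module R M]
    (π : F →ₗ[R] M) (hπ : Function.Surjective π) :
    ∃ (P : Type u) (_ : AddCommGroup P) (_ : Module R P) (π : P →ₗ[R] M),
      Module.Projective R P ∧ Function.Surjective π ∧
        LinearMap.ker π ≤ J • (⊤ : Submodule R P) := by
  have hT : Module.IsTorsionBySet R (F ⧸ (J • (⊤ : Submodule R F))) (J : Set R) := fun v a => by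
    obtain ⟨v, rfl⟩ := Submodule.Quotient.mk_surjective _ v
    rw [← Submodule.Quotient.mk_smul, Submodule.Quotient.mk_eq_zero]
    exact Submodule.smul_mem_smul a.2 trivial
  haveI : IsSemisimpleModule R (F ⧸ (J • (⊤ : Submodule R F))) :=
    hT.isSemisimpleModule_iff.1 inferInstance
  obtain ⟨C, hC⟩ := exists_isCompl ((LinearMap.ker π).map (Submodule.mkQ (J • (⊤ : Submodule R F))))
  obtain ⟨eb, heb0, heb1, heb2⟩ : ∃ eb : Module.End R (F ⧸ (J • (⊤ : Submodule R F))),
      IsIdempotentElem eb ∧
      (∀ x ∈ (LinearMap.ker π).map (Submodule.mkQ (J • (⊤ : Submodule R F))), eb x = 0) ∧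
      (∀ x, x - eb x ∈ (LinearMap.ker π).map (Submodule.mkQ (J • (⊤ : Submodule R F)))) := by
    refine ⟨C.subtype ∘ₗ Submodule.linearProjOfIsCompl C _ hC.symm, LinearMap.ext fun x => ?_,
      fun x hx => ?_, fun x => ?_⟩
    · exact congrArg Subtype.val (Submodule.linearProjOfIsCompl_apply_left hC.symm _)
    · exact (congrArg Subtype.val
        ((Submodule.linearProjOfIsCompl_apply_eq_zero_iff hC.symm).2 hx)).trans rfl
    · refine (Submodule.linearProjOfIsCompl_apply_eq_zero_iff hC.symm).1 ?_
      rw [map_sub, sub_eq_zero]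
      exact (Submodule.linearProjOfIsCompl_apply_left hC.symm _).symm
  obtain ⟨e, he, hee⟩ := exists_idempotent_lift J n hn eb heb0
  let s : F →ₗ[R] LinearMap.range e := e.rangeRestrict
  let i : LinearMap.range e →ₗ[R] F := (LinearMap.range e).subtype
  have hsi : s ∘ₗ i = LinearMap.id := by
    refine LinearMap.ext fun ⟨p, q, hq⟩ => Subtype.ext ?_
    show e p = p
    rw [← hq, ← Module.End.mul_apply, he.eq]
  refine ⟨LinearMap.range e, inferInstance, inferInstance, π ∘ₗ i, Module.Projective.of_split i s hsi,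
    ?_, ?_⟩
  · -- surjectivity by nilpotent Nakayama
    have h0 : ∀ x : F, π x ∈ LinearMap.range (π ∘ₗ i) ⊔ J • (⊤ : Submodule R M) := by
      intro x
      have hmem := heb2 (Submodule.Quotient.mk x)
      rw [hee, ← Submodule.Quotient.mk_sub] at hmem
      obtain ⟨k, hk, hk2⟩ := hmem
      rw [Submodule.mkQ_apply, Submodule.Quotient.eq] at hk2
      have hk3 := Submodule.mem_map_of_mem (f := π) hk2
      rw [Submodule.map_smul''] at hk3
      have hk4 : π k - (π x - π (e x)) ∈ J • (⊤ : Submodule R M) := by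
        simpa using Submodule.smul_mono le_rfl le_top hk3
      rw [LinearMap.mem_ker.1 hk, zero_sub, neg_mem_iff] at hk4
      rw [← add_sub_cancel (π (e x)) (π x)]
      exact add_mem (Submodule.mem_sup_left ⟨⟨e x, LinearMap.mem_range_self e x⟩, rfl⟩)
        (Submodule.mem_sup_right hk4)
    have h1 : ∀ k, (⊤ : Submodule R M) ≤ LinearMap.range (π ∘ₗ i) ⊔ J ^ k • ⊤ := by
      intro k
      induction k with
      | zero => simp
      | succ k ih =>
        refine ih.trans (sup_le le_sup_left ?_)
        refine (Submodule.smul_mono le_rfl (fun m _ => ?_ : ⊤ ≤ LinearMap.range (π ∘ₗ i) ⊔ J • ⊤)).trans ?_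
        · obtain ⟨x, rfl⟩ := hπ m
          exact h0 x
        · rw [Submodule.smul_sup, ← Submodule.mul_smul, ← pow_succ]
          exact sup_le_sup_right Submodule.smul_le_right _
    have h2 := h1 n
    rw [hn, Ideal.zero_eq_bot, Submodule.bot_smul, sup_bot_eq] at h2
    exact LinearMap.range_eq_top.1 (top_le_iff.1 h2)
  · rintro ⟨p, q, hq⟩ hp
    have h1 : eb (Submodule.Quotient.mk p) = 0 := heb1 _ ⟨p, show π p = 0 from hp, rfl⟩
    have h2 : e p = p := by rw [← hq, ← Module.End.mul_apply, he.eq]
    rw [hee, h2, Submodule.Quotient.mk_eq_zero] at h1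
    have h3 := Submodule.mem_map_of_mem (f := s) h1
    rw [Submodule.map_smul''] at h3
    have h4 : s p = ⟨p, q, hq⟩ := Subtype.ext h2
    rw [h4] at h3
    exact Submodule.smul_mono le_rfl le_top h3

theorem baseChange_exact {S : Type u} [CommRing S] [Algebra R S] {N P M : Type u} [AddCommGroup N]
    [Module R N] [AddCommGroup P] [Module R P] [AddCommGroup M] [Module R M] (f : N →ₗ[R] P)
    (g : P →ₗ[R] M) (h : Function.Exact f g) (hg : Function.Surjective g) :
    Function.Exact (LinearMap.range (f.baseChange S)).subtype (g.baseChange S) := by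
  intro z
  have h1 : g.baseChange S z = g.lTensor S z := congrFun (LinearMap.baseChange_eq_ltensor g) z
  have h2 : ∀ w, f.baseChange S w = f.lTensor S w := fun w => congrFun (LinearMap.baseChange_eq_ltensor f) w
  rw [h1, (lTensor_exact S h hg) z]
  constructor
  · rintro ⟨w, hw⟩
    exact ⟨⟨z, w, (h2 w).trans hw⟩, rfl⟩
  · rintro ⟨⟨_, w, rfl⟩, hz⟩
    exact ⟨w, (h2 w).symm.trans hz⟩

theorem exists_projective_cover (J : Ideal R) (hJ : IsNilpotent J) [IsSemisimpleRing (R ⧸ J)]
    (M : Type u) [AddCommGroup M] [Module R M] :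
    ∃ (P : Type u) (_ : AddCommGroup P) (_ : Module R P) (π : P →ₗ[R] M),
      Module.Projective R P ∧ Function.Surjective π ∧
        LinearMap.ker π ≤ J • (⊤ : Submodule R P) := by
  obtain ⟨n, hn⟩ := hJ
  exact exists_projective_cover_aux J n hn (Finsupp.linearCombination R (id : M → M))
    fun m => ⟨Finsupp.single m 1, (Finsupp.linearCombination_single R (1 : R) m).trans (one_smul R m)⟩

theorem eq_bot_of_flat_quotient (J : Ideal R) (n : ℕ) (hn : J ^ n = 0) {P M : Type u} [AddCommGroup P]
    [Module R P] [AddCommGroup M] [Module R M] [Module.Flat R M] (T : Submodule R P) (g : P →ₗ[R] M)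
    (hg : Function.Surjective g) (hex : Function.Exact T.subtype g) (hT : T ≤ J • ⊤) : T = ⊥ := by
  have h1 : (⊤ : Submodule R T) ≤ J • ⊤ := fun x _ =>
    mem_smul_of_map_mem_of_mulMap_injective T.subtype Subtype.val_injective g hg hex J
      (mulMap_injective J) (hT x.2)
  have h2 : ∀ k, (⊤ : Submodule R T) ≤ J ^ k • ⊤ := by
    intro k
    induction k with
    | zero => simp
    | succ k ih =>
      refine ih.trans ?_
      rw [pow_succ, Submodule.mul_smul]
      exact Submodule.smul_mono le_rfl h1
  rw [Submodule.eq_bot_iff]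
  intro x hx
  have h3 := h2 n (Submodule.mem_top (x := (⟨x, hx⟩ : T)))
  rw [hn, Ideal.zero_eq_bot, Submodule.bot_smul, Submodule.mem_bot] at h3
  exact congrArg Subtype.val h3

/-- `R` semiprimary, `R → S` injective and `S ⊗ M` flat over `S` imply `M` projective. -/
theorem projective_of_injective_of_flat_baseChange (J : Ideal R) (hJ : IsNilpotent J)
    [IsSemisimpleRing (R ⧸ J)] {S : Type u} [CommRing S] [Algebra R S]
    (hinj : Function.Injective (algebraMap R S)) (M : Type u) [AddCommGroup M] [Module R M]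
    [Module.Flat S (S ⊗[R] M)] : Module.Projective R M := by
  obtain ⟨n, hn⟩ := id hJ
  obtain ⟨P, _, _, π, hP, hπ, hker⟩ := exists_projective_cover J hJ M
  haveI := hP
  let ι := (LinearMap.ker π).subtype
  have hexact : Function.Exact ι π := LinearMap.exact_subtype_ker_map π
  have hT : LinearMap.range (ι.baseChange S) ≤
      J.map (algebraMap R S) • (⊤ : Submodule S (S ⊗[R] P)) := by
    rintro _ ⟨w, rfl⟩
    induction w using TensorProduct.induction_on with
    | zero => simp
    | tmul s l =>
      rw [LinearMap.baseChange_tmul]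
      refine Submodule.smul_induction_on (p := fun p => s ⊗ₜ[R] p ∈ J.map (algebraMap R S) • (⊤ : Submodule S (S ⊗[R] P)))
        (hker l.2) (fun a ha p _ => ?_) (fun p q hp hq => by rw [tmul_add]; exact add_mem hp hq)
      rw [tmul_smul, ← algebraMap_smul S a (s ⊗ₜ[R] p)]
      exact Submodule.smul_mem_smul (Ideal.mem_map_of_mem _ ha) trivial
    | add a b ha hb => simpa using add_mem ha hb
  have hbot : LinearMap.range (ι.baseChange S) = ⊥ := by
    refine eq_bot_of_flat_quotient (J.map (algebraMap R S)) n ?_ _ (π.baseChange S) ?_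
      (baseChange_exact ι π hexact hπ) hT
    · rw [← Ideal.map_pow, hn, Ideal.zero_eq_bot, Ideal.map_bot]; rfl
    · intro z
      obtain ⟨w, hw⟩ := LinearMap.lTensor_surjective S hπ z
      exact ⟨w, (congrFun (LinearMap.baseChange_eq_ltensor π) w).trans hw⟩
  have hl : ∀ l, ι l = 0 := by
    intro l
    have h1 : (1 : S) ⊗ₜ[R] ι l = 0 := by
      rw [← Submodule.mem_bot S, ← hbot]
      exact ⟨(1 : S) ⊗ₜ[R] l, LinearMap.baseChange_tmul (A := S) (f := ι) 1 l⟩
    have h2 := Module.Flat.rTensor_preserves_injective_linearMap (M := P) (Algebra.linearMap R S) hinj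
    refine (TensorProduct.lid R P).symm.injective (h2 ?_)
    rw [map_zero, map_zero, TensorProduct.lid_symm_apply, LinearMap.rTensor_tmul]
    simpa using h1
  have hinjπ : Function.Injective π := by
    rw [← LinearMap.ker_eq_bot, Submodule.eq_bot_iff]
    exact fun p hp => hl ⟨p, hp⟩
  exact Module.Projective.of_equiv (LinearEquiv.ofBijective π ⟨hinjπ, hπ⟩)

theorem flat_of_injective_of_flat_baseChange [IsArtinianRing R] {S : Type u} [CommRing S]
    [Algebra R S] (hinj : Function.Injective (algebraMap R S)) (M : Type u) [AddCommGroup M]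
    [Module R M] [Module.Flat S (S ⊗[R] M)] : Module.Flat R M :=
  haveI := projective_of_injective_of_flat_baseChange (Ring.jacobson R)
    IsSemiprimaryRing.isNilpotent hinj M
  inferInstance

end Groth.Agent.LocalCrit
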