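import Groth.Agent.LocalCrit.Basic
import Mathlib.LinearAlgebra.TensorProduct.Vanishing
import Mathlib.Algebra.Module.Projective
import Mathlib.RingTheory.LocalRing.Module

/-!
Maps from projective modules into flat modules over a local ring, injective on the closed fibre.
-/

universe u
open TensorProduct

namespace Groth.Agent.LocalCrit

variable {R : Type u} [CommRing R] [IsLocalRing R]

local notation "𝔪" => IsLocalRing.maximalIdeal R

theorem pi_mem_smul_top_iff {n : ℕ} (A : Ideal R) (v : Fin n → R) :
    v ∈ A • (⊤ : Submodule R (Fin n → R)) ↔ ∀ i, v i ∈ A := by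
  constructor
  · intro hv i
    refine Submodule.smul_induction_on (p := fun v => v i ∈ A) hv (fun a ha w _ => ?_)
      (fun p q hp hq => ?_)
    · simpa using A.mul_mem_right (w i) ha
    · simpa using add_mem hp hq
  · intro hv
    rw [pi_eq_sum_univ' v]
    exact Submodule.sum_mem _ fun i _ => Submodule.smul_mem_smul (hv i) trivial

theorem eq_zero_of_sum_tmul_eq_zero_of_residue {N : Type u} [AddCommGroup N] [Module R N]
    [Module.Flat R N] {n : ℕ} (x : Fin n → N)
    (h : ∀ a : Fin n → R, ∑ i, a i • x i ∈ 𝔪 • (⊤ : Submodule R N) → ∀ i, a i ∈ 𝔪)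
    {Q : Type u} [AddCommGroup Q] [Module R Q] (q : Fin n → Q)
    (hq : ∑ i, x i ⊗ₜ[R] q i = 0) : ∀ i, q i = 0 := by
  classical
  have hq' : ∑ i, q i ⊗ₜ[R] x i = 0 := by
    simpa [map_sum] using congrArg (TensorProduct.comm R N Q) hq
  have hinj : Function.Injective ((Submodule.span R (Set.range q)).subtype.rTensor N) :=
    Module.Flat.rTensor_preserves_injective_linearMap _ (Submodule.subtype_injective _)
  obtain ⟨k, a, z, hz, hax⟩ :=
    vanishesTrivially_of_sum_tmul_eq_zero_of_rTensor_injective R hinj hq'
  let c : (Fin n → R) →ₗ[R] (Fin k → R) := Fintype.linearCombination R a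
  have hres : Function.Injective (c.lTensor (IsLocalRing.ResidueField R)) := by
    refine (quot_lTensor_injective_iff 𝔪 c).2 fun v hv => (pi_mem_smul_top_iff 𝔪 v).2 (h v ?_)
    have : ∑ i, v i • x i = ∑ j, (c v j) • z j := by
      simp only [c, Fintype.linearCombination_apply, Finset.sum_apply, Pi.smul_apply, smul_eq_mul,
        Finset.sum_smul, hz, Finset.smul_sum, mul_smul]
      exact Finset.sum_comm
    rw [this]
    exact Submodule.sum_mem _ fun j _ =>
      Submodule.smul_mem_smul ((pi_mem_smul_top_iff 𝔪 _).1 hv j) trivial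
  obtain ⟨b, hb⟩ := (IsLocalRing.split_injective_iff_lTensor_residueField_injective c).2 hres
  intro i
  have hid : ∀ i', ∑ j, a i' j * b (Pi.single j 1) i = if i' = i then 1 else 0 := by
    intro i'
    have h1 : c (Pi.single i' 1) = a i' := by simp [c, Fintype.linearCombination_apply_single]
    have h2 := congrFun (LinearMap.congr_fun hb (Pi.single i' 1)) i
    rw [LinearMap.comp_apply, h1, pi_eq_sum_univ' (a i')] at h2
    simpa [map_sum, Pi.single_apply, eq_comm] using h2
  calc q i = ∑ i', (∑ j, a i' j * b (Pi.single j 1) i) • q i' := by simp [hid]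
    _ = ∑ j, b (Pi.single j 1) i • ∑ i', a i' j • q i' := by
        simp only [Finset.sum_smul, Finset.smul_sum, smul_smul]
        rw [Finset.sum_comm]
        simp only [mul_comm]
    _ = 0 := by simp [hax]

theorem rTensor_injective_of_residue_finsupp {α : Type u} {N : Type u} [AddCommGroup N] [Module R N]
    [Module.Flat R N] (u : (α →₀ R) →ₗ[R] N)
    (h : Function.Injective (u.lTensor (IsLocalRing.ResidueField R)))
    (Q : Type u) [AddCommGroup Q] [Module R Q] : Function.Injective (u.rTensor Q) := by
  classical
  rw [injective_iff_map_eq_zero]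
  intro z hz
  obtain ⟨w, rfl⟩ := (finsuppScalarLeft R Q α).symm.surjective z
  let e := w.support.equivFin
  let g : Fin w.support.card → α := fun i => (e.symm i : α)
  have hg : Function.Injective g := Subtype.val_injective.comp e.symm.injective
  have hsum : (finsuppScalarLeft R Q α).symm w = ∑ i, Finsupp.single (g i) (1 : R) ⊗ₜ[R] w (g i) := by
    conv_lhs => rw [← w.sum_single]
    rw [Finsupp.sum, map_sum, ← Finset.sum_coe_sort, ← e.symm.sum_comp]
    refine Finset.sum_congr rfl fun i _ => ?_
    exact finsuppScalarLeft_symm_apply_single (R := R) (g i) (w (g i))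
  rw [hsum] at hz ⊢
  simp only [map_sum, LinearMap.rTensor_tmul] at hz
  have hx : ∀ a : Fin w.support.card → R,
      ∑ i, a i • u (Finsupp.single (g i) 1) ∈ 𝔪 • (⊤ : Submodule R N) → ∀ i, a i ∈ 𝔪 := by
    intro a ha i
    have h1 := (quot_lTensor_injective_iff 𝔪 u).1 h (∑ i, a i • Finsupp.single (g i) 1)
      (by rw [map_sum]; simp only [map_smul]; exact ha)
    have h2 := (finsupp_mem_smul_top_iff _ _).1 h1 (g i)
    simpa [Finsupp.single_apply, hg.eq_iff] using h2
  have := eq_zero_of_sum_tmul_eq_zero_of_residue _ hx _ hz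
  simp [this]

theorem flat_prod {N F : Type u} [AddCommGroup N] [Module R N] [Module.Flat R N] [AddCommGroup F]
    [Module R F] [Module.Flat R F] : Module.Flat R (N × F) := by
  rw [Module.Flat.iff_rTensor_injective]
  intro J _
  rw [injective_iff_map_eq_zero]
  intro z hz
  have hf : (LinearMap.fst R N F).lTensor J z = 0 := by
    refine mulMap_injective J ?_
    rw [mulMap_lTensor, map_zero]
    have : mulMap J (N × F) z = TensorProduct.lid R (N × F) ((Submodule.subtype J).rTensor (N × F) z) := rfl
    rw [this, hz, map_zero, map_zero]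
  have hs : (LinearMap.snd R N F).lTensor J z = 0 := by
    refine mulMap_injective J ?_
    rw [mulMap_lTensor, map_zero]
    have : mulMap J (N × F) z = TensorProduct.lid R (N × F) ((Submodule.subtype J).rTensor (N × F) z) := rfl
    rw [this, hz, map_zero, map_zero]
  have hid : (LinearMap.inl R N F) ∘ₗ LinearMap.fst R N F + (LinearMap.inr R N F) ∘ₗ LinearMap.snd R N F =
      LinearMap.id := by ext <;> simp
  calc z = ((LinearMap.inl R N F) ∘ₗ LinearMap.fst R N F +
        (LinearMap.inr R N F) ∘ₗ LinearMap.snd R N F).lTensor J z := by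
          rw [hid, LinearMap.lTensor_id, LinearMap.id_apply]
    _ = 0 := by
      rw [LinearMap.lTensor_add, LinearMap.add_apply, LinearMap.lTensor_comp_apply,
        LinearMap.lTensor_comp_apply, hf, hs, map_zero, map_zero, add_zero]

theorem rTensor_injective_of_residue {M N : Type u} [AddCommGroup M] [Module R M]
    [Module.Projective R M] [AddCommGroup N] [Module R N] [Module.Flat R N] (u : M →ₗ[R] N)
    (h : Function.Injective (u.lTensor (IsLocalRing.ResidueField R)))
    (Q : Type u) [AddCommGroup Q] [Module R Q] : Function.Injective (u.rTensor Q) := by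
  obtain ⟨s, hs⟩ := Module.projective_lifting_property (Finsupp.linearCombination R (id : M → M))
    LinearMap.id (fun m => ⟨Finsupp.single m 1,
      (Finsupp.linearCombination_single R (1 : R) m).trans (one_smul R m)⟩)
  let p := Finsupp.linearCombination R (id : M → M)
  have hps : ∀ m, p (s m) = m := fun m => LinearMap.congr_fun hs m
  let u' : (M →₀ R) →ₗ[R] N × (M →₀ R) :=
    (u ∘ₗ p).prod (LinearMap.id - s ∘ₗ p)
  have h' : Function.Injective (u'.lTensor (IsLocalRing.ResidueField R)) := by
    refine (quot_lTensor_injective_iff 𝔪 u').2 fun x hx => ?_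
    have hfst := Submodule.mem_map_of_mem (f := LinearMap.fst R N (M →₀ R)) hx
    have hsnd := Submodule.mem_map_of_mem (f := LinearMap.snd R N (M →₀ R)) hx
    rw [Submodule.map_smul''] at hfst hsnd
    have h1 := (quot_lTensor_injective_iff 𝔪 u).1 h (p x) (Submodule.smul_mono le_rfl le_top hfst)
    have h2 := Submodule.mem_map_of_mem (f := s) h1
    rw [Submodule.map_smul''] at h2
    have h3 := add_mem (Submodule.smul_mono le_rfl le_top hsnd)
      (Submodule.smul_mono le_rfl le_top h2 : s (p x) ∈ 𝔪 • (⊤ : Submodule R (M →₀ R)))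
    simpa [u'] using h3
  have := flat_prod (R := R) (N := N) (F := M →₀ R)
  have key := rTensor_injective_of_residue_finsupp u' h' Q
  rw [injective_iff_map_eq_zero]
  intro z hz
  have hcomp : u' ∘ₗ s = LinearMap.inl R N (M →₀ R) ∘ₗ u :=
    LinearMap.ext fun m => Prod.ext (by simp [u', hps]) (by simp [u', hps])
  have h1 : u'.rTensor Q (s.rTensor Q z) = 0 := by
    rw [← LinearMap.rTensor_comp_apply, hcomp, LinearMap.rTensor_comp_apply, hz, map_zero]
  have h2 : s.rTensor Q z = 0 := key (h1.trans (map_zero _).symm)
  have h3 := congrArg (p.rTensor Q) h2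
  rw [← LinearMap.rTensor_comp_apply, show p ∘ₗ s = LinearMap.id from hs, LinearMap.rTensor_id,
    LinearMap.id_apply, map_zero] at h3
  exact h3

end Groth.Agent.LocalCrit
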