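import Groth.Agent.LocalCrit.Basic
import Mathlib.LinearAlgebra.TensorProduct.Vanishing
import Mathlib.RingTheory.Flat.EquationalCriterion
import Mathlib.RingTheory.Flat.Stability
import Mathlib.RingTheory.Flat.Localization
import Mathlib.RingTheory.Localization.BaseChange
import Mathlib.RingTheory.Localization.Away.Basic

/-!
Flatness from flatness away from a regular element and modulo it.
-/

universe u
open TensorProduct

namespace Groth.Agent.LocalCrit

variable {A : Type u} [CommRing A] {M : Type u} [AddCommGroup M] [Module A M] {f : A}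

theorem smul_tensor_eq_zero_cancel (hA : f ∈ nonZeroDivisors A) (hM : IsSMulRegular M f)
    [Module.Flat (A ⧸ Ideal.span {f}) ((A ⧸ Ideal.span {f}) ⊗[A] M)] (J : Ideal A) (hJ : J.FG)
    {z : J ⊗[A] M} (hz : f • z = 0) : z = 0 := by
  classical
  obtain ⟨n, a, ha⟩ := Submodule.fg_iff_exists_fin_generating_family.1 hJ
  have ha' : ∀ i, a i ∈ J := fun i => ha ▸ Submodule.subset_span ⟨i, rfl⟩
  let b : Fin n → J := fun i => ⟨a i, ha' i⟩
  have hb : Submodule.span A (Set.range b) = ⊤ := by
    refine Submodule.map_injective_of_injective (f := J.subtype) Subtype.val_injective ?_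
    rw [Submodule.map_span, Submodule.map_top, Submodule.range_subtype, ← Set.range_comp]
    exact ha
  obtain ⟨m, hm⟩ : ∃ m : Fin n → M, z = ∑ i, b i ⊗ₜ m i := by
    clear hz
    induction z using TensorProduct.induction_on with
    | zero => exact ⟨0, by simp⟩
    | tmul c x =>
      obtain ⟨c', hc'⟩ := (Submodule.mem_span_range_iff_exists_fun A).1 (hb.ge (Submodule.mem_top (x := c)))
      exact ⟨fun i => c' i • x, by simp only [← hc', sum_tmul, smul_tmul]⟩
    | add p q hp hq =>
      obtain ⟨v, rfl⟩ := hp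
      obtain ⟨w, rfl⟩ := hq
      exact ⟨v + w, by simp [tmul_add, Finset.sum_add_distrib]⟩
  subst hm
  have h0 : ∑ i, b i ⊗ₜ[A] (f • m i) = 0 := by
    rw [← hz, Finset.smul_sum]
    simp only [tmul_smul]
  obtain ⟨k, r, h, hr', hra⟩ := vanishesTrivially_of_sum_tmul_eq_zero A hb h0
  have hr : ∀ i, f • m i = ∑ j, r i j • h j := hr'
  -- the relations modulo `f`
  let I := Ideal.span ({f} : Set A)
  let Q := (A ⧸ I) ⊗[A] M
  let π : A →+* A ⧸ I := Ideal.Quotient.mk I
  let φ : (Fin n → A ⧸ I) →ₗ[A ⧸ I] (Fin k → A ⧸ I) :=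
    Fintype.linearCombination (A ⧸ I) (fun i => fun j => π (r i j))
  let x : (Fin k → A ⧸ I) →ₗ[A ⧸ I] Q :=
    Fintype.linearCombination (A ⧸ I) (fun j => (1 : A ⧸ I) ⊗ₜ[A] h j)
  have hxφ : x ∘ₗ φ = 0 := by
    refine LinearMap.ext fun v => ?_
    simp only [x, φ, LinearMap.comp_apply, Fintype.linearCombination_apply, LinearMap.zero_apply,
      Finset.sum_apply, Pi.smul_apply, Finset.sum_smul, smul_eq_mul, mul_smul]
    rw [Finset.sum_comm]
    refine Finset.sum_eq_zero fun i _ => ?_
    rw [← Finset.smul_sum]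
    have : ∑ j, π (r i j) • ((1 : A ⧸ I) ⊗ₜ[A] h j) = (1 : A ⧸ I) ⊗ₜ[A] (f • m i) := by
      rw [hr i, tmul_sum]
      refine Finset.sum_congr rfl fun j _ => ?_
      rw [tmul_smul, ← algebraMap_smul (A ⧸ I) (r i j), Ideal.Quotient.algebraMap_eq]
    rw [this, (one_tmul_eq_zero_iff I (f • m i)).2
      (Submodule.smul_mem_smul (Ideal.mem_span_singleton_self f) trivial), smul_zero]
  obtain ⟨l, α, y, hxy, hαφ⟩ := Module.Flat.exists_factorization_of_comp_eq_zero_of_free hxφ
  choose s hs using fun j e => Ideal.Quotient.mk_surjective (α (Pi.single j 1) e)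
  choose y' hy' using fun e => exists_one_tmul I (y (Finsupp.single e 1))
  have hw : ∀ j, ∃ w : M, h j = ∑ e, s j e • y' e + f • w := by
    intro j
    have h1 : (1 : A ⧸ I) ⊗ₜ[A] (h j - ∑ e, s j e • y' e) = 0 := by
      have h2 : x (Pi.single j 1) = y (α (Pi.single j 1)) := by rw [hxy, LinearMap.comp_apply]
      have h3 : α (Pi.single j 1) = ∑ e, π (s j e) • Finsupp.single e (1 : A ⧸ I) := by
        ext e
        simp [π, hs, Finsupp.single_apply]
      rw [tmul_sub, sub_eq_zero, tmul_sum]
      rw [h3, map_sum] at h2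
      simp only [x, Fintype.linearCombination_apply_single, one_smul, map_smul, hy'] at h2
      rw [h2]
      refine Finset.sum_congr rfl fun e _ => ?_
      rw [tmul_smul, ← algebraMap_smul (A ⧸ I) (s j e), Ideal.Quotient.algebraMap_eq]
    rw [one_tmul_eq_zero_iff, Submodule.ideal_span_singleton_smul,
      Submodule.mem_smul_pointwise_iff_exists] at h1
    obtain ⟨w, -, hw⟩ := h1
    exact ⟨w, by rw [hw, add_sub_cancel]⟩
  choose w hw using hw
  have ht : ∀ i e, ∃ t, ∑ j, r i j * s j e = f * t := by
    intro i e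
    refine Ideal.mem_span_singleton.1 (Ideal.Quotient.eq_zero_iff_mem.1 ?_)
    have h1 := congrArg (fun v : Fin l →₀ A ⧸ I => v e) (LinearMap.congr_fun hαφ (Pi.single i 1))
    have h2 : φ (Pi.single i 1) = ∑ j, π (r i j) • Pi.single j (1 : A ⧸ I) := by
      ext j
      simp [φ, Fintype.linearCombination_apply_single, Pi.single_apply, Finset.sum_apply]
    simp only [LinearMap.comp_apply, h2, map_sum, map_smul, LinearMap.zero_apply, Finsupp.coe_zero,
      Pi.zero_apply, Finsupp.coe_finsetSum, Finset.sum_apply, Finsupp.coe_smul, Pi.smul_apply,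
      smul_eq_mul, ← hs, π, ← map_mul] at h1
    rw [map_sum]
    exact h1
  choose t ht using ht
  have hm : ∀ i, m i = ∑ e, t i e • y' e + ∑ j, r i j • w j := by
    intro i
    apply hM
    show f • m i = f • (∑ e, t i e • y' e + ∑ j, r i j • w j)
    rw [hr i, smul_add, Finset.smul_sum, Finset.smul_sum]
    simp only [hw, smul_add, Finset.smul_sum, smul_smul, ← ht, Finset.sum_smul, Finset.sum_add_distrib]
    rw [Finset.sum_comm]
    congr 1
    refine Finset.sum_congr rfl fun j _ => ?_
    rw [mul_comm]
  have hta : ∀ e, ∑ i, t i e • b i = 0 := by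
    intro e
    apply Subtype.ext
    rw [Submodule.coe_zero]
    refine (mul_left_mem_nonZeroDivisors_eq_zero_iff hA).1 ?_
    have h3 : ∀ j, ∑ i, r i j * a i = 0 := fun j => by
      simpa [b] using congrArg Subtype.val (hra j)
    calc f * ((∑ i, t i e • b i : J) : A) = ∑ i, (∑ j, r i j * s j e) * a i := by
          simp [b, Finset.mul_sum, ht, mul_assoc]
      _ = ∑ j, s j e * ∑ i, r i j * a i := by
          simp only [Finset.sum_mul, Finset.mul_sum]
          rw [Finset.sum_comm]
          exact Finset.sum_congr rfl fun j _ => Finset.sum_congr rfl fun i _ => by ring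
      _ = 0 := by simp [h3]
  calc ∑ i, b i ⊗ₜ[A] m i
      = ∑ e, (∑ i, t i e • b i) ⊗ₜ[A] y' e + ∑ j, (∑ i, r i j • b i) ⊗ₜ[A] w j := by
        simp only [hm, tmul_add, tmul_sum, sum_tmul, smul_tmul, Finset.sum_add_distrib]
        rw [Finset.sum_comm]
        congr 1
        exact Finset.sum_comm
    _ = 0 := by simp [hta, hra]

theorem flat_of_away_of_quotient (hA : f ∈ nonZeroDivisors A) (hM : IsSMulRegular M f)
    [Module.Flat (Localization.Away f) (LocalizedModule (Submonoid.powers f) M)]
    [Module.Flat (A ⧸ Ideal.span {f}) ((A ⧸ Ideal.span {f}) ⊗[A] M)] : Module.Flat A M := by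
  rw [Module.Flat.iff_rTensor_injective]
  intro J hJ
  suffices Function.Injective (mulMap J M) by
    intro a b hab
    apply this
    exact congrArg (TensorProduct.lid A M) hab
  rw [← LinearMap.ker_eq_bot, LinearMap.ker_eq_bot']
  intro z hz
  haveI : Module.Flat A (LocalizedModule (Submonoid.powers f) M) :=
    Module.Flat.trans A (Localization.Away f) _
  let g := LocalizedModule.mkLinearMap (Submonoid.powers f) M
  have h1 : g.lTensor J z = 0 :=
    mulMap_injective J (by rw [mulMap_lTensor, hz, map_zero, map_zero])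
  have h2 : (g.rTensor J) (TensorProduct.comm A J M z) = 0 := by
    have key : ∀ w, (g.rTensor J) (TensorProduct.comm A J M w) =
        TensorProduct.comm A J _ (g.lTensor J w) := fun w => by
      induction w using TensorProduct.induction_on with
      | zero => simp
      | tmul c x => simp
      | add p q hp hq => simp only [map_add, hp, hq]
    rw [key, h1, map_zero]
  haveI : IsLocalizedModule (Submonoid.powers f) (AlgebraTensorModule.rTensor A J g) :=
    inferInstance
  obtain ⟨⟨_, n, rfl⟩, hc⟩ := IsLocalizedModule.exists_of_eq (S := Submonoid.powers f)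
    (f := AlgebraTensorModule.rTensor A J g) (x₁ := TensorProduct.comm A J M z) (x₂ := 0)
    (by rw [map_zero]; exact h2)
  rw [smul_zero] at hc
  have h3 : f ^ n • z = 0 := by
    apply (TensorProduct.comm A J M).injective
    rw [map_smul, map_zero]
    exact hc
  clear hc h2 h1 hz
  induction n generalizing z with
  | zero => simpa using h3
  | succ n ih =>
    rw [pow_succ, mul_smul] at h3
    exact smul_tensor_eq_zero_cancel hA hM J hJ (ih _ h3)

end Groth.Agent.LocalCrit
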